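import Cfsg.Agent.Lib.Local.FS.ModelSolvable
import Cfsg.Agent.Lib.Char.PSolvHeight
import Cfsg.Agent.Lib.Solv.Parts
import Cfsg.Agent.Lib.Solv.PSolvHall

/-!
Automizers of `p`-subgroups: passing to subgroups and quotients.
-/

set_option autoImplicit false
set_option linter.style.haveILetI false

namespace Cfsg.Agent.Solv.AutomizerPrimes

open Cfsg

universe u

variable {G : Type u} [Group G]

/-- An element of `q`-power order normalises `H` without centralising it. -/
def Moves (q : ℕ) (H : Subgroup G) : Prop :=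
  ∃ x : G, x ∈ Subgroup.normalizer (H : Set G) ∧ (∃ j, orderOf x = q ^ j) ∧
    x ∉ Subgroup.centralizer (H : Set G)

/-- All automizers of `p`-subgroups are `p`-solvable. -/
def AutPSolv (p : ℕ) (G : Type u) [Group G] : Prop :=
  ∀ H : Subgroup G, IsPGroup p ↥H →
    Cfsg.IsPSolvable p (↥(Subgroup.normalizer (H : Set G)) ⧸
      (Subgroup.centralizer (H : Set G)).subgroupOf (Subgroup.normalizer (H : Set G)))

theorem moves_of_dvd [Finite G] {q : ℕ} [Fact q.Prime] {H : Subgroup G}
    (h : q ∣ ((Subgroup.centralizer (H : Set G)).subgroupOf (Subgroup.normalizer (H : Set G))).index) :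
    Moves q H := by
  obtain ⟨Q⟩ : Nonempty (Sylow q (Subgroup.normalizer (H : Set G))) := inferInstance
  obtain ⟨x, hxQ, hxC⟩ := SetLike.not_le_iff_exists.1 fun hle : (Q : Subgroup _) ≤
      (Subgroup.centralizer (H : Set G)).subgroupOf (Subgroup.normalizer (H : Set G)) =>
    Q.not_dvd_index (h.trans (Subgroup.index_dvd_of_le hle))
  obtain ⟨j, hj⟩ := IsPGroup.iff_orderOf.1 Q.isPGroup' ⟨x, hxQ⟩
  rw [Subgroup.orderOf_mk, ← Subgroup.orderOf_coe] at hj
  exact ⟨x, x.2, ⟨j, hj⟩, hxC⟩

theorem dvd_of_moves [Finite G] {q : ℕ} [hq : Fact q.Prime] {H : Subgroup G} (h : Moves q H) :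
    q ∣ ((Subgroup.centralizer (H : Set G)).subgroupOf (Subgroup.normalizer (H : Set G))).index := by
  obtain ⟨x, hxN, ⟨j, hj⟩, hxC⟩ := h
  set N := Subgroup.normalizer (H : Set G) with hN
  set C := (Subgroup.centralizer (H : Set G)).subgroupOf N with hC
  haveI : C.Normal := by rw [hC, hN]; infer_instance
  have h1 : orderOf (QuotientGroup.mk (⟨x, hxN⟩ : N) : N ⧸ C) ∣ q ^ j := by
    rw [← hj, ← Subgroup.orderOf_mk x hxN]
    exact orderOf_map_dvd (QuotientGroup.mk' C) _
  obtain ⟨i, -, hi⟩ := (Nat.dvd_prime_pow hq.out).1 h1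
  have hi0 : i ≠ 0 := by
    rintro rfl
    rw [pow_zero, orderOf_eq_one_iff, QuotientGroup.eq_one_iff] at hi
    exact hxC hi
  exact ((dvd_pow_self q hi0).trans (hi ▸ orderOf_dvd_natCard _))

theorem moves_map {Y : Type u} [Group Y] (f : Y →* G) (hf : Function.Injective f) {q : ℕ} {H : Subgroup Y}
    (h : Moves q H) : Moves q (H.map f) := by
  obtain ⟨x, hxN, ⟨j, hj⟩, hxC⟩ := h
  refine ⟨f x, Subgroup.le_normalizer_map f ⟨x, hxN, rfl⟩, ⟨j, by rw [orderOf_injective f hf, hj]⟩,
    fun hc => hxC (Subgroup.mem_centralizer_iff.2 fun h hh => hf ?_)⟩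
  rw [map_mul, map_mul]
  exact Subgroup.mem_centralizer_iff.1 hc _ ⟨h, hh, rfl⟩

/-- Adding a normal `p`- or `p'`-subgroup. -/
theorem isPSolvable_of_coprime_quotient [Finite G] {p : ℕ} [Fact p.Prime] (N : Subgroup G)
    [N.Normal] (hN : (Nat.card N).Coprime p) (h : IsPSolvable p (G ⧸ N)) : IsPSolvable p G := by
  obtain ⟨n, H, h0, hl, hm, hn, hstep⟩ := h
  obtain ⟨π, hπ⟩ : ∃ π, π = QuotientGroup.mk' N := ⟨_, rfl⟩
  have hπs : Function.Surjective π := hπ ▸ QuotientGroup.mk'_surjective N
  refine ⟨n + 1, Fin.cons ⊥ fun i => (H i).comap π, rfl, ?_, ?_, ?_, ?_⟩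
  · rw [← Fin.succ_last, Fin.cons_succ, hl, Subgroup.comap_top]
  · intro i j hij
    induction i using Fin.cases with
    | zero => exact bot_le
    | succ i =>
      induction j using Fin.cases with
      | zero => exact absurd hij (by simp)
      | succ j =>
        simp only [Fin.cons_succ]
        exact Subgroup.comap_mono (hm (Fin.succ_le_succ_iff.1 hij))
  · intro i
    induction i using Fin.cases with
    | zero => exact Subgroup.normal_bot
    | succ i => simp only [Fin.cons_succ]; exact (hn i).comap π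
  · intro i
    induction i using Fin.cases with
    | zero =>
      right
      simp only [Fin.castSucc_zero, Fin.cons_zero, Fin.cons_succ]
      rw [Subgroup.relIndex_bot_left, h0, MonoidHom.comap_bot, hπ, QuotientGroup.ker_mk']
      exact hN
    | succ i =>
      rw [← Fin.succ_castSucc]
      simp only [Fin.cons_succ]
      have he : ((H i.castSucc).comap π).relIndex ((H i.succ).comap π) = (H i.castSucc).relIndex (H i.succ) := by
        rw [Subgroup.relIndex_comap, Subgroup.map_comap_eq_self_of_surjective hπs]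
      rw [he]
      exact hstep i

/-- The hypothesis passes to subgroups. -/
theorem AutPSolv.of_injective [Finite G] {Y : Type u} [Group Y] {p : ℕ} [Fact p.Prime] (h : AutPSolv p G)
    (f : Y →* G) (hf : Function.Injective f) : AutPSolv p Y := by
  intro H hH
  haveI : Finite Y := Finite.of_injective f hf
  set N := Subgroup.normalizer (H : Set Y)
  set N' := Subgroup.normalizer ((H.map f : Subgroup G) : Set G)
  set C' := (Subgroup.centralizer ((H.map f : Subgroup G) : Set G)).subgroupOf N'
  have hmem : ∀ x : N, f x ∈ N' := fun x => Subgroup.le_normalizer_map f ⟨x, x.2, rfl⟩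
  let φ : N →* N' ⧸ C' := (QuotientGroup.mk' C').comp ((f.comp N.subtype).codRestrict N' hmem)
  have hker : φ.ker = (Subgroup.centralizer (H : Set Y)).subgroupOf N := by
    ext x
    rw [MonoidHom.mem_ker, Subgroup.mem_subgroupOf]
    show (QuotientGroup.mk _ : N' ⧸ C') = 1 ↔ _
    rw [QuotientGroup.eq_one_iff]
    show f x ∈ Subgroup.centralizer ((H.map f : Subgroup G) : Set G) ↔ _
    constructor
    · intro hc
      refine Subgroup.mem_centralizer_iff.2 fun h hh => hf ?_
      rw [map_mul, map_mul]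
      exact Subgroup.mem_centralizer_iff.1 hc _ ⟨h, hh, rfl⟩
    · intro hc
      refine Subgroup.mem_centralizer_iff.2 ?_
      rintro _ ⟨h, hh, rfl⟩
      rw [← map_mul, ← map_mul, Subgroup.mem_centralizer_iff.1 hc h hh]
  have h2 := Char.isPSolvable_subgroup Fact.out (h _ (hH.map f)) φ.range
  exact Local.FS.isPSolvable_of_equiv
    ((QuotientGroup.quotientKerEquivRange φ).symm.trans (QuotientGroup.quotientMulEquivOfEq hker)) h2

/-- The hypothesis passes to quotients by normal `p`-subgroups. -/
theorem AutPSolv.quotient [Finite G] {p : ℕ} [Fact p.Prime] (h : AutPSolv p G) (K : Subgroup G) [K.Normal]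
    (hK : IsPGroup p ↥K) : AutPSolv p (G ⧸ K) := by
  intro H hH
  set π := QuotientGroup.mk' K with hπ
  have hπs : Function.Surjective π := QuotientGroup.mk'_surjective K
  set H' := H.comap π with hH'
  have hp' : IsPGroup p ↥H' := hH.comap_of_ker_isPGroup π (by rw [hπ, QuotientGroup.ker_mk']; exact hK)
  set N := Subgroup.normalizer (H' : Set G) with hN
  set NB := Subgroup.normalizer (H : Set (G ⧸ K))
  have hNeq : NB.comap π = N := Subgroup.comap_normalizer_eq_of_surjective H hπs
  let ψ : N →* NB := (π.comp N.subtype).codRestrict NB fun x => hNeq.ge x.2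
  have hψ : Function.Surjective ψ := by
    rintro ⟨y, hy⟩
    obtain ⟨x, rfl⟩ := hπs y
    have hx : x ∈ N := hNeq ▸ hy
    exact ⟨⟨x, hx⟩, rfl⟩
  set CB := (Subgroup.centralizer (H : Set (G ⧸ K))).subgroupOf NB
  let φ := QuotientGroup.lift ((Subgroup.centralizer (H' : Set G)).subgroupOf N)
    ((QuotientGroup.mk' CB).comp ψ) (fun x hx => by
      rw [MonoidHom.mem_ker]
      show (QuotientGroup.mk (ψ x) : NB ⧸ CB) = 1
      rw [QuotientGroup.eq_one_iff]
      refine Subgroup.mem_subgroupOf.2 (Subgroup.mem_centralizer_iff.2 fun y hy => ?_)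
      obtain ⟨a, rfl⟩ := hπs y
      show π a * π (x : G) = π (x : G) * π a
      have hax : a * (x : G) = (x : G) * a := Subgroup.mem_centralizer_iff.1 hx a hy
      rw [← map_mul, ← map_mul, hax])
  refine Solv.isPSolvable_map Fact.out (h H' hp') φ fun y => ?_
  obtain ⟨z, rfl⟩ := QuotientGroup.mk'_surjective CB y
  obtain ⟨x, rfl⟩ := hψ z
  exact ⟨QuotientGroup.mk x, rfl⟩

/-- Pulling a moved subgroup back from a quotient. -/
theorem moves_comap [Finite G] {q : ℕ} [hq : Fact q.Prime] (K : Subgroup G) [K.Normal] {H : Subgroup (G ⧸ K)}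
    (h : Moves q H) : Moves q (H.comap (QuotientGroup.mk' K)) := by
  obtain ⟨y, hyN, ⟨j, hj⟩, hyC⟩ := h
  obtain ⟨g, rfl⟩ := QuotientGroup.mk'_surjective K y
  obtain ⟨a, d, haz, -, had, ⟨i, hi⟩, hdc⟩ := Solv.exists_ppart q g
  have hd : QuotientGroup.mk' K d = 1 := by
    have hd1 : orderOf (QuotientGroup.mk' K d) ∣ orderOf d := orderOf_map_dvd _ d
    have ha1 : orderOf (QuotientGroup.mk' K a) ∣ q ^ i := hi ▸ orderOf_map_dvd _ a
    have hd2 : QuotientGroup.mk' K d = (QuotientGroup.mk' K a)⁻¹ * QuotientGroup.mk' K g := by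
      rw [← had, map_mul]; group
    have hc : Commute (QuotientGroup.mk' K a)⁻¹ (QuotientGroup.mk' K g) := by
      have hga : Commute a g := by
        obtain ⟨k, rfl⟩ := haz
        exact (Commute.refl g).zpow_left k
      exact (hga.map (QuotientGroup.mk' K)).inv_left
    have hd3 : (QuotientGroup.mk' K d) ^ q ^ (i + j) = 1 := by
      rw [hd2, hc.mul_pow, inv_pow,
        orderOf_dvd_iff_pow_eq_one.1 (ha1.trans (pow_dvd_pow q (Nat.le_add_right i j))),
        orderOf_dvd_iff_pow_eq_one.1 (hj.dvd.trans (pow_dvd_pow q (Nat.le_add_left j i))), inv_one, one_mul]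
    have h4 : orderOf (QuotientGroup.mk' K d) = 1 :=
      Nat.eq_one_of_dvd_coprimes (Nat.Coprime.pow_right (i + j) hdc) hd1 (orderOf_dvd_of_pow_eq_one hd3)
    exact orderOf_eq_one_iff.1 h4
  have hga : QuotientGroup.mk' K a = QuotientGroup.mk' K g := by rw [← had, map_mul, hd, mul_one]
  refine ⟨a, ?_, ⟨i, hi⟩, fun hc => hyC (Subgroup.mem_centralizer_iff.2 fun y hy => ?_)⟩
  · rw [← Subgroup.comap_normalizer_eq_of_surjective H (QuotientGroup.mk'_surjective K)]
    rw [Subgroup.mem_comap, hga]; exact hyN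
  · obtain ⟨b, rfl⟩ := QuotientGroup.mk'_surjective K y
    rw [← hga, ← map_mul, ← map_mul, Subgroup.mem_centralizer_iff.1 hc b hy]

/-- With a `p`-group Sylow subgroup of the centraliser inside `H`, the normaliser is `p`-solvable. -/
theorem isPSolvable_normalizer [Finite G] {p : ℕ} [Fact p.Prime] (h : AutPSolv p G) {H : Subgroup G}
    (hH : IsPGroup p ↥H) (hZ : ¬ p ∣ H.relIndex (Subgroup.centralizer (H : Set G))) :
    IsPSolvable p ↥(Subgroup.normalizer (H : Set G)) := by
  set N := Subgroup.normalizer (H : Set G)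
  set C := (Subgroup.centralizer (H : Set G)).subgroupOf N with hC
  set Z := H.subgroupOf N ⊓ C with hZdef
  have hZp : IsPGroup p ↥Z :=
    (hH.of_equiv (Subgroup.subgroupOfEquivOfLe Subgroup.le_normalizer).symm).to_le inf_le_left
  refine Local.FS.isPSolvable_of_pgroup_quotient Z hZp ?_
  set π := QuotientGroup.mk' Z
  haveI : (C.map π).Normal := (inferInstance : C.Normal).map π (QuotientGroup.mk'_surjective Z)
  have hco : (Nat.card (C.map π)).Coprime p := by
    refine Nat.Coprime.symm ((Fact.out : p.Prime).coprime_iff_not_dvd.2 ?_)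
    have h1 : Nat.card (C.map π) = Z.relIndex C := by
      rw [← Subgroup.relIndex_ker, QuotientGroup.ker_mk']
    have h2 : Z.relIndex C = H.relIndex (Subgroup.centralizer (H : Set G)) := by
      rw [hZdef, Subgroup.inf_relIndex_right, hC,
        Subgroup.relIndex_subgroupOf (Subgroup.centralizer_le_normalizer _)]
    rw [h1, h2]; exact hZ
  refine isPSolvable_of_coprime_quotient (C.map π) hco ?_
  exact Local.FS.isPSolvable_of_equiv
    (QuotientGroup.quotientQuotientEquivQuotient Z C inf_le_right).symm (h H hH)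

end Cfsg.Agent.Solv.AutomizerPrimes
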