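import Cfsg.Agent.Lib.Solv.AutomizerPrimes.TwoPrimeHall
import Cfsg.Agent.Lib.Fusion.ThompsonFactor
import Cfsg.Agent.S0618
import Cfsg.Agent.Lib.Solv.PConj
import Cfsg.Agent.Lib.Solv.ClassPow
import Cfsg.Agent.Lib.Perm.NilpotentHall

/-!
A prime dividing an automizer of a `p`-subgroup divides one of a normal subgroup of a Sylow subgroup.
-/

set_option autoImplicit false
set_option linter.style.haveILetI false

namespace Cfsg.Agent.Solv.AutomizerPrimes

open Cfsg Cfsg.Agent.Fusion

universe u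

variable {p q : ℕ} [hp : Fact p.Prime] [hq : Fact q.Prime]

/-- The `q`-part of an element has the same image when the image has `q`-power order. -/
theorem exists_qpart_same_image {G G' : Type u} [Group G] [Finite G] [Group G'] (f : G →* G') (n : G)
    (h : ∃ j, orderOf (f n) ∣ q ^ j) :
    ∃ a ∈ Subgroup.zpowers n, (∃ i, orderOf a = q ^ i) ∧ f a = f n := by
  obtain ⟨j, hj⟩ := h
  obtain ⟨a, d, ha, -, had, ⟨i, hi⟩, hdc⟩ := Solv.exists_ppart q n
  refine ⟨a, ha, ⟨i, hi⟩, ?_⟩
  have hc : Commute (f a)⁻¹ (f n) := by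
    obtain ⟨k, rfl⟩ := ha
    exact (((Commute.refl n).zpow_left k).map f).inv_left
  have hd : f d = (f a)⁻¹ * f n := by rw [← had, map_mul]; group
  have h1 : (f d) ^ q ^ (i + j) = 1 := by
    rw [hd, hc.mul_pow, inv_pow,
      orderOf_dvd_iff_pow_eq_one.1 ((hi ▸ orderOf_map_dvd f a).trans (pow_dvd_pow q (Nat.le_add_right i j))),
      orderOf_dvd_iff_pow_eq_one.1 (hj.trans (pow_dvd_pow q (Nat.le_add_left j i))), inv_one, one_mul]
  have h2 : orderOf (f d) = 1 := Nat.eq_one_of_dvd_coprimes (Nat.Coprime.pow_right (i + j) hdc)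
    (orderOf_map_dvd f d) (orderOf_dvd_of_pow_eq_one h1)
  rw [← had, map_mul, orderOf_eq_one_iff.1 h2, mul_one]

/-- A set product of two subgroups filling the group bounds its order. -/
theorem card_dvd_of_forall_mul {G : Type u} [Group G] [Finite G] (A B : Subgroup G)
    (h : ∀ g : G, ∃ a ∈ A, ∃ b ∈ B, g = a * b) : Nat.card G ∣ Nat.card B * Nat.card A := by
  let f : A ⧸ B.subgroupOf A → G ⧸ B := Quotient.map' (fun c => (c : G)) fun a b hab => by
    rw [QuotientGroup.leftRel_apply] at hab ⊢; exact hab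
  have hbij : Function.Bijective f := by
    constructor
    · intro a b hab
      induction a using Quotient.inductionOn' with | h a =>
      induction b using Quotient.inductionOn' with | h b =>
      have h' : (QuotientGroup.mk (a : G) : G ⧸ B) = QuotientGroup.mk (b : G) := hab
      exact QuotientGroup.eq.2 (QuotientGroup.eq.1 h' :)
    · intro i
      induction i using Quotient.inductionOn' with | h g =>
      obtain ⟨a, ha, b, hb, rfl⟩ := h g
      refine ⟨QuotientGroup.mk ⟨a, ha⟩, ?_⟩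
      show (QuotientGroup.mk a : G ⧸ B) = QuotientGroup.mk (a * b)
      rw [QuotientGroup.eq, inv_mul_cancel_left]
      exact hb
  rw [← B.card_mul_index, Subgroup.index, ← Nat.card_eq_of_bijective f hbij]
  exact mul_dvd_mul_left _ (Subgroup.index_dvd_card _)

omit hp hq in
/-- `SL₂(2)` has order divisible by `3` and `SL₂(3)` by `2`. -/
theorem dvd_card_sl2 (hp23 : p = 2 ∨ p = 3) :
    5 - p ∣ Nat.card (Matrix.SpecialLinearGroup (Fin 2) (ZMod p)) := by
  rcases hp23 with rfl | rfl
  · obtain ⟨x, hx, hx1⟩ : ∃ x : Matrix.SpecialLinearGroup (Fin 2) (ZMod 2), x ^ 3 = 1 ∧ x ≠ 1 :=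
      ⟨⟨!![0, 1; 1, 1], by rw [Matrix.det_fin_two_of]; decide⟩, by decide,
        fun h => absurd (congrArg (fun M : Matrix.SpecialLinearGroup (Fin 2) (ZMod 2) => M.1 0 0) h) (by decide)⟩
    haveI : Fact (Nat.Prime 3) := ⟨Nat.prime_three⟩
    have h := orderOf_dvd_natCard x
    rwa [orderOf_eq_prime hx hx1] at h
  · obtain ⟨x, hx, hx1⟩ : ∃ x : Matrix.SpecialLinearGroup (Fin 2) (ZMod 3), x ^ 2 = 1 ∧ x ≠ 1 :=
      ⟨⟨!![2, 0; 0, 2], by rw [Matrix.det_fin_two_of]; decide⟩, by decide,
        fun h => absurd (congrArg (fun M : Matrix.SpecialLinearGroup (Fin 2) (ZMod 3) => M.1 0 0) h) (by decide)⟩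
    haveI : Fact (Nat.Prime 2) := ⟨Nat.prime_two⟩
    have h := orderOf_dvd_natCard x
    rwa [orderOf_eq_prime hx hx1] at h

/-- Thompson factorization for `{p, q}`-groups, `{p, q} ≠ {2, 3}`. -/
theorem factorizable_twoPrimes {W : Type u} [Group W] [Finite W] (hpq : p ≠ q)
    (h23 : ¬ ((p = 2 ∧ q = 3) ∨ (p = 3 ∧ q = 2))) (hW : TwoPrimes p q (Nat.card W))
    (hsol : IsPSolvable p W) : IsThompsonFactorizable p W := by
  by_contra hnf
  set R := pPrimeCore p W with hR
  obtain ⟨hp23, E, -, -, -, _, ⟨e⟩⟩ := Cfsg.Agent.S0618.result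
    (Solv.isPSolvable_map hp.out hsol (QuotientGroup.mk' R) (QuotientGroup.mk'_surjective R))
    pPrimeCore_quotient_eq_bot (fun h => hnf (factorizable_iff_quotient.2 h))
  have hd : 5 - p ∣ Nat.card W := by
    refine (dvd_card_sl2 hp23).trans ?_
    rw [← Nat.card_congr e.toEquiv]
    exact ((Subgroup.index_dvd_card _).trans E.card_subgroup_dvd_card).trans (Subgroup.index_dvd_card R)
  rcases hp23 with rfl | rfl
  · rcases hW 3 Nat.prime_three hd with h | h
    · norm_num at h
    · exact h23 (Or.inl ⟨rfl, h.symm⟩)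
  · rcases hW 2 Nat.prime_two hd with h | h
    · norm_num at h
    · exact h23 (Or.inr ⟨rfl, h.symm⟩)

/-- In the two-prime group some `q`-element outside `C` normalises a characteristic subgroup of the Sylow
`p`-subgroup. -/
theorem exists_mover {W : Type u} [Group W] [Finite W] (hpq : p ≠ q)
    (h23 : ¬ ((p = 2 ∧ q = 3) ∨ (p = 3 ∧ q = 2))) (hW : TwoPrimes p q (Nat.card W))
    (hsol : IsPSolvable p W) (Hw : Subgroup W) [Hw.Normal] (hHw : IsPGroup p Hw)
    (hqC : q ∣ (Subgroup.centralizer (Hw : Set W)).index) (T : Sylow p W) :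
    ∃ y : W, (∃ i, orderOf y = q ^ i) ∧ y ∉ Subgroup.centralizer (Hw : Set W) ∧
      (y ∈ Subgroup.normalizer (omegaZ p (T : Subgroup W) : Set W) ∨
        y ∈ Subgroup.normalizer (jElem p (T : Subgroup W) : Set W)) := by
  by_contra hno
  set C := Subgroup.centralizer (Hw : Set W) with hC
  set ψ := QuotientGroup.mk' C with hψ
  have hsmall : ∀ A : Subgroup W, (∀ y ∈ A, (∃ i, orderOf y = q ^ i) → y ∈ C) →
      ¬ q ∣ Nat.card (A.map ψ) := by
    intro A hA hd
    obtain ⟨z, hz⟩ := exists_prime_orderOf_dvd_card' q hd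
    obtain ⟨a, ha, haz⟩ := z.2
    obtain ⟨b, hb, hbi, hba⟩ := exists_qpart_same_image (q := q) ψ a
      ⟨1, by rw [haz, Subgroup.orderOf_coe, hz, pow_one]⟩
    have hbC : b ∈ C := hA b (Subgroup.zpowers_le.2 ha hb) hbi
    have h1 : ψ b = 1 := (QuotientGroup.eq_one_iff b).2 hbC
    rw [hba, haz] at h1
    rw [← Subgroup.orderOf_coe, h1, orderOf_one] at hz
    exact hq.out.one_lt.ne hz
  set AA := (Subgroup.centralizer (omegaZ p (T : Subgroup W) : Set W)).map ψ with hAA
  set BB := (Subgroup.normalizer (jElem p (T : Subgroup W) : Set W)).map ψ with hBB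
  have hA : ¬ q ∣ Nat.card AA := hsmall _ fun y hy hyi => by
    by_contra hyC
    exact hno ⟨y, hyi, hyC, Or.inl (Subgroup.centralizer_le_normalizer _ hy)⟩
  have hB : ¬ q ∣ Nat.card BB := hsmall _ fun y hy hyi => by
    by_contra hyC
    exact hno ⟨y, hyi, hyC, Or.inr hy⟩
  have hO : pPrimeCore p W ≤ C := by
    have hco : (Nat.card ↥(pPrimeCore p W)).Coprime (Nat.card Hw) := by
      obtain ⟨k, hk⟩ := IsPGroup.iff_card.1 hHw
      rw [hk]; exact (card_pPrimeCore_coprime p W).pow_right k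
    intro x hx
    refine Subgroup.mem_centralizer_iff.2 fun h hh => ?_
    exact (Subgroup.commute_of_normal_of_disjoint _ _ inferInstance inferInstance
      (disjoint_iff.2 (Subgroup.inf_eq_bot_of_coprime hco)) x h hx hh).eq.symm
  have hcover : ∀ g : W ⧸ C, ∃ a ∈ AA, ∃ b ∈ BB, g = a * b := by
    intro g
    obtain ⟨g, rfl⟩ := QuotientGroup.mk'_surjective C g
    obtain ⟨x, hx, c, hc, n, hn, rfl⟩ := factorizable_twoPrimes hpq h23 hW hsol T g
    rw [← jElem_eq] at hn
    refine ⟨ψ c, ⟨c, hc, rfl⟩, ψ n, ⟨n, hn, rfl⟩, ?_⟩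
    rw [map_mul, map_mul]
    show ψ x * ψ c * ψ n = ψ c * ψ n
    rw [show ψ x = 1 from (QuotientGroup.eq_one_iff x).2 (hO hx), one_mul]
  rcases hq.out.dvd_mul.1 (hqC.trans (card_dvd_of_forall_mul AA BB hcover)) with h | h
  · exact hB h
  · exact hA h

/-- The theorem. -/
theorem exists_normal_sylow_automizer (hpq : p ≠ q) (h23 : ¬ ((p = 2 ∧ q = 3) ∨ (p = 3 ∧ q = 2))) :
    ∀ (n : ℕ) {G : Type u} [Group G] [Finite G], Nat.card G = n → AutPSolv p G →
      ∀ H : Subgroup G, IsPGroup p H → Moves q H → ∀ S : Sylow p G,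
        ∃ K : Subgroup G, K ≤ (S : Subgroup G) ∧
          (S : Subgroup G) ≤ Subgroup.normalizer (K : Set G) ∧ Moves q K := by
  classical
  intro n
  induction n using Nat.strong_induction_on with
  | _ n ih =>
  intro G _ _ hn hsol H₀ hH₀ hM₀ S
  by_contra hne
  -- the maximal choice
  set 𝓗 : Set (Subgroup G) := {H | H ≤ (S : Subgroup G) ∧ Moves q H} with h𝓗
  set m : Subgroup G → ℕ := fun H =>
    Nat.card ↥((S : Subgroup G) ⊓ Subgroup.normalizer (H : Set G)) * (Nat.card G + 1) + Nat.card H with hm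
  have hne0 : 𝓗.Nonempty := by
    obtain ⟨g, hg⟩ := Solv.exists_le_conj_sylow hH₀ S
    refine ⟨H₀.map (MulAut.conj g⁻¹).toMonoidHom, ?_,
      moves_map _ (MulAut.conj g⁻¹).injective hM₀⟩
    rintro _ ⟨x, hx, rfl⟩
    obtain ⟨s, hs, rfl⟩ := hg hx
    show g⁻¹ * (g * s * g⁻¹) * g⁻¹⁻¹ ∈ (S : Subgroup G)
    rwa [show g⁻¹ * (g * s * g⁻¹) * g⁻¹⁻¹ = s by group]
  obtain ⟨H, ⟨hHS, hHM⟩, hmax⟩ := Set.exists_max_image 𝓗 m (Set.toFinite _) hne0
  have hHp : IsPGroup p H := S.isPGroup'.to_le hHS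
  set T := (S : Subgroup G) ⊓ Subgroup.normalizer (H : Set G) with hT
  have hHT : H ≤ T := le_inf hHS Subgroup.le_normalizer
  have hTp : IsPGroup p T := S.isPGroup'.to_le inf_le_left
  -- any moved subgroup normalised by a `p`-group is no better
  have hcomp : ∀ (K U : Subgroup G), IsPGroup p U → K ≤ U → U ≤ Subgroup.normalizer (K : Set G) →
      Moves q K → Nat.card U ≤ Nat.card T ∧ (Nat.card T = Nat.card U → Nat.card K ≤ Nat.card H) := by
    intro K U hU hKU hUK hKM
    obtain ⟨g, hg⟩ := Solv.exists_le_conj_sylow hU S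
    set e := (MulAut.conj g⁻¹).toMonoidHom with he
    have hUS : U.map e ≤ (S : Subgroup G) := by
      rintro _ ⟨x, hx, rfl⟩
      obtain ⟨s, hs, rfl⟩ := hg hx
      show g⁻¹ * (g * s * g⁻¹) * g⁻¹⁻¹ ∈ (S : Subgroup G)
      rwa [show g⁻¹ * (g * s * g⁻¹) * g⁻¹⁻¹ = s by group]
    have hinj : Function.Injective e := (MulAut.conj g⁻¹).injective
    have h1 := hmax (K.map e) ⟨(Subgroup.map_mono hKU).trans hUS, moves_map e hinj hKM⟩
    have h2 : Nat.card U ≤ Nat.card ↥((S : Subgroup G) ⊓ Subgroup.normalizer (K.map e : Set G)) := by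
      rw [← Subgroup.card_map_of_injective (K := U) hinj]
      exact Nat.le_of_dvd Nat.card_pos (Subgroup.card_dvd_of_le
        (le_inf hUS ((Subgroup.map_mono hUK).trans (Subgroup.le_normalizer_map e))))
    simp only [hm, ← hT] at h1
    rw [Subgroup.card_map_of_injective hinj] at h1
    have hb : Nat.card H < Nat.card G + 1 :=
      Nat.lt_succ_of_le (Nat.le_of_dvd Nat.card_pos H.card_subgroup_dvd_card)
    refine ⟨?_, fun heq => ?_⟩
    · by_contra hlt
      push Not at hlt
      have h3 : (Nat.card T + 1) * (Nat.card G + 1) ≤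
          Nat.card ↥((S : Subgroup G) ⊓ Subgroup.normalizer (K.map e : Set G)) * (Nat.card G + 1) :=
        Nat.mul_le_mul_right _ (by omega)
      rw [add_mul, one_mul] at h3
      omega
    · have h3 : Nat.card T * (Nat.card G + 1) ≤
          Nat.card ↥((S : Subgroup G) ⊓ Subgroup.normalizer (K.map e : Set G)) * (Nat.card G + 1) :=
        Nat.mul_le_mul_right _ (by omega)
      omega
  set N := Subgroup.normalizer (H : Set G) with hN
  have hTN : T ≤ N := inf_le_right
  -- `T` is a Sylow subgroup of `N`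
  have hTsyl : ¬ p ∣ T.relIndex N := by
    obtain ⟨T', hT'⟩ := (hTp.of_equiv (Subgroup.subgroupOfEquivOfLe hTN).symm).exists_le_sylow
    have hle : T ≤ (T' : Subgroup N).map N.subtype := fun x hx => ⟨⟨x, hTN hx⟩, hT' hx, rfl⟩
    have h1 := (hcomp H ((T' : Subgroup N).map N.subtype) (T'.isPGroup'.map _) (hHT.trans hle)
      (Subgroup.map_subtype_le _) hHM).1
    have heq : T = (T' : Subgroup N).map N.subtype := Subgroup.eq_of_le_of_card_ge hle h1
    show ¬ p ∣ (T.subgroupOf N).index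
    rw [heq, Subgroup.subgroupOf, Subgroup.comap_map_eq_self_of_injective N.subtype_injective]
    exact T'.not_dvd_index
  set C := (Subgroup.centralizer (H : Set G)).subgroupOf N with hC
  haveI hCn : C.Normal := by rw [hC, hN]; infer_instance
  -- a Sylow subgroup of `C(H)` lies in `H`
  have hZ : ¬ p ∣ H.relIndex (Subgroup.centralizer (H : Set G)) := by
    set TN := T.subgroupOf N with hTN'
    have hidxC : ¬ p ∣ (TN.subgroupOf C).index := fun h =>
      hTsyl (h.trans (Solv.relIndex_dvd_index_normal TN C))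
    let PC : Sylow p C := IsPGroup.toSylow
      (((hTp.of_equiv (Subgroup.subgroupOfEquivOfLe hTN).symm)).comap_subtype) hidxC
    have hfr : Subgroup.normalizer (((PC : Subgroup C).map C.subtype : Subgroup N) : Set N) ⊔ C = ⊤ :=
      Sylow.normalizer_sup_eq_top PC
    have hPC : (PC : Subgroup C).map C.subtype = TN ⊓ C := by
      show (TN.subgroupOf C).map C.subtype = TN ⊓ C
      rw [Subgroup.subgroupOf_map_subtype]
    rw [hPC] at hfr
    set R := H ⊔ (T ⊓ Subgroup.centralizer (H : Set G)) with hR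
    have hRT : R ≤ T := sup_le hHT inf_le_left
    obtain ⟨x, hxN, ⟨j, hj⟩, hxC⟩ := id hHM
    have hx' : (⟨x, hxN⟩ : N) ∈ Subgroup.normalizer ((TN ⊓ C : Subgroup N) : Set N) ⊔ C :=
      hfr ▸ Subgroup.mem_top _
    obtain ⟨m₁, hm₁, c, hc, hmc⟩ := Subgroup.mem_sup_of_normal_right.1 hx'
    have himg : QuotientGroup.mk' C m₁ = QuotientGroup.mk' C ⟨x, hxN⟩ := by
      rw [← hmc, map_mul, show QuotientGroup.mk' C c = 1 from (QuotientGroup.eq_one_iff c).2 hc, mul_one]
    obtain ⟨a, ha, ⟨i, hi⟩, haimg⟩ := exists_qpart_same_image (q := q) (QuotientGroup.mk' C) m₁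
      ⟨j, by rw [himg, ← hj, ← Subgroup.orderOf_mk x hxN]; exact orderOf_map_dvd _ _⟩
    have hRM : Moves q R := by
      have haN := Subgroup.zpowers_le.2 hm₁ ha
      refine ⟨(a : G), ?_, ⟨i, by rw [Subgroup.orderOf_coe, hi]⟩, fun hc' => hxC ?_⟩
      · have h1 : (a : G) ∈ Subgroup.normalizer ((((TN ⊓ C).map N.subtype) : Subgroup G) : Set G) :=
          Subgroup.le_normalizer_map N.subtype ⟨a, haN, rfl⟩
        have h2 : (TN ⊓ C).map N.subtype = T ⊓ Subgroup.centralizer (H : Set G) := by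
          rw [hTN', hC, Subgroup.subgroupOf, Subgroup.subgroupOf, ← Subgroup.comap_inf,
            ← Subgroup.subgroupOf, Subgroup.subgroupOf_map_subtype,
            inf_eq_left.2 (inf_le_left.trans hTN)]
        rw [h2] at h1
        refine mem_normalizer_of_cj_le ?_
        show Subgroup.map _ R ≤ R
        rw [hR, Subgroup.map_sup]
        exact sup_le_sup (le_of_eq (cj_eq_self a.2)) (le_of_eq (cj_eq_self h1))
      · have h3 : a ∈ C := Subgroup.mem_subgroupOf.2
          ((Subgroup.centralizer_le (SetLike.coe_subset_coe.2 (le_sup_left : H ≤ R))) hc')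
        have h4 : QuotientGroup.mk' C a = 1 := (QuotientGroup.eq_one_iff a).2 h3
        rw [haimg, himg] at h4
        exact (QuotientGroup.eq_one_iff (⟨x, hxN⟩ : N)).1 h4
    have hTR : T ≤ Subgroup.normalizer (R : Set G) := fun t ht => mem_normalizer_of_cj_le (by
      show Subgroup.map _ R ≤ R
      rw [hR, Subgroup.map_sup]
      refine sup_le_sup (le_of_eq (cj_eq_self (hTN ht))) ?_
      rintro _ ⟨y, ⟨hy1, hy2⟩, rfl⟩
      refine Subgroup.mem_inf.2 ⟨mul_mem (mul_mem ht hy1) (inv_mem ht), ?_⟩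
      exact (Subgroup.normal_subgroupOf_iff_le_normalizer (Subgroup.centralizer_le_normalizer _)).1 hCn
        (hTN ht) |> fun h => (Subgroup.mem_normalizer_iff.1 h y).1 hy2)
    have hcard := (hcomp R T hTp hRT hTR hRM).2 rfl
    have hRH : H = R := Subgroup.eq_of_le_of_card_ge le_sup_left hcard
    have hsub : T ⊓ Subgroup.centralizer (H : Set G) ≤ H := le_sup_right.trans_eq hRH.symm
    intro hd
    apply hidxC
    have h5 : (TN.subgroupOf C).index = T.relIndex (Subgroup.centralizer (H : Set G)) := by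
      show TN.relIndex C = _
      rw [hTN', hC, Subgroup.relIndex_subgroupOf (Subgroup.centralizer_le_normalizer _)]
    rw [h5, ← Subgroup.inf_relIndex_right]
    exact hd.trans (Subgroup.relIndex_dvd_of_le_left _ hsub)
  have hNsol := isPSolvable_normalizer hsol hHp hZ
  -- the two-prime subgroup containing `T`
  obtain ⟨W₀, hW₀, hW₀p, hW₀q⟩ := exists_twoPrimeHall _ (G := N) rfl hp.out hq.out hNsol
  obtain ⟨P₀, hP₀⟩ := Perm.NilpotentHall.exists_sylow_le (G := N) hW₀p
  let TNs : Sylow p N := IsPGroup.toSylow (hTp.of_equiv (Subgroup.subgroupOfEquivOfLe hTN).symm) hTsyl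
  obtain ⟨g, hg⟩ := MulAction.exists_smul_eq N P₀ TNs
  set W := W₀.map (MulAut.conj g).toMonoidHom with hW
  have hginj : Function.Injective (MulAut.conj g).toMonoidHom := (MulAut.conj g).injective
  have hWc : TwoPrimes p q (Nat.card W) := by rwa [hW, Subgroup.card_map_of_injective hginj]
  have hWq : ¬ q ∣ W.index := by
    rwa [hW, show (MulAut.conj g).toMonoidHom = ((MulAut.conj g : N ≃* N) : N →* N) from rfl,
      Subgroup.index_map_equiv]
  have hTW : T.subgroupOf N ≤ W := by
    show ((TNs : Sylow p N) : Subgroup N) ≤ W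
    rw [← hg, Sylow.coe_subgroup_smul]
    exact Subgroup.map_mono hP₀
  let ι : W →* G := N.subtype.comp W.subtype
  have hι : Function.Injective ι := N.subtype_injective.comp W.subtype_injective
  set Hw := H.comap ι with hHw
  haveI : Hw.Normal := ⟨fun a ha b => by
    show ι (b * a * b⁻¹) ∈ H
    rw [map_mul, map_mul, map_inv]
    exact (Subgroup.mem_normalizer_iff.1 ((b : N).2) _).1 ha⟩
  have hcomapT : (T.comap ι).map ι = T := Subgroup.map_comap_eq_self (fun t ht =>
    ⟨⟨⟨t, hTN ht⟩, hTW (Subgroup.mem_subgroupOf.2 ht)⟩, rfl⟩)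
  have hHmap : Hw.map ι = H := Subgroup.map_comap_eq_self (fun t ht =>
    ⟨⟨⟨t, hTN (hHT ht)⟩, hTW (Subgroup.mem_subgroupOf.2 (hHT ht))⟩, rfl⟩)
  have hcw : ∀ w : W, w ∈ Subgroup.centralizer (Hw : Set W) ↔ (w : N) ∈ C := by
    intro w
    constructor
    · intro hw
      refine Subgroup.mem_subgroupOf.2 (Subgroup.mem_centralizer_iff.2 fun h hh => ?_)
      rw [← hHmap] at hh
      obtain ⟨h, hh', rfl⟩ := hh
      show ι h * ι w = ι w * ι h
      rw [← map_mul, ← map_mul, Subgroup.mem_centralizer_iff.1 hw h hh']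
    · intro hw
      refine Subgroup.mem_centralizer_iff.2 fun h hh => hι ?_
      rw [map_mul, map_mul]
      exact Subgroup.mem_centralizer_iff.1 (Subgroup.mem_subgroupOf.1 hw) _ hh
  have hqC : q ∣ (Subgroup.centralizer (Hw : Set W)).index := by
    have h1 : Subgroup.centralizer (Hw : Set W) = C.subgroupOf W :=
      Subgroup.ext fun w => (hcw w).trans Subgroup.mem_subgroupOf.symm
    have h2 : C.index ∣ C.relIndex W * W.index := by
      rw [← Subgroup.inf_relIndex_right, Subgroup.relIndex_mul_index inf_le_right]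
      exact Subgroup.index_dvd_of_le inf_le_left
    rw [h1]
    exact (hq.out.dvd_mul.1 ((dvd_of_moves hHM).trans h2)).resolve_right hWq
  have hTidx : ¬ p ∣ (T.comap ι).index := fun h => hTsyl (h.trans (by
    show ((T.subgroupOf N).subgroupOf W).index ∣ (T.subgroupOf N).index
    exact dvd_of_mul_right_eq _ (Subgroup.relIndex_mul_index hTW)))
  let TW : Sylow p W := IsPGroup.toSylow (hTp.comap_of_injective ι hι) hTidx
  obtain ⟨y₀, ⟨i, hyi⟩, hyC, hyK⟩ := exists_mover hpq h23 hWc
    (Char.isPSolvable_subgroup hp.out hNsol W) Hw (hHp.comap_of_injective ι hι) hqC TW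
  set y := ι y₀ with hy
  have hyN : y ∈ N := (y₀ : N).2
  have hyq : orderOf y = q ^ i := by rw [hy, orderOf_injective ι hι, hyi]
  have hyc : y ∉ Subgroup.centralizer (H : Set G) := fun h =>
    hyC ((hcw y₀).2 (Subgroup.mem_subgroupOf.2 h))
  have hH1 : H ≠ ⊥ := by
    intro h
    refine hyc (Subgroup.mem_centralizer_iff.2 fun x hx => ?_)
    rw [h, SetLike.mem_coe, Subgroup.mem_bot] at hx
    rw [hx, one_mul, mul_one]
  have hT1 : Nontrivial T := (Subgroup.nontrivial_iff_ne_bot T).2 (ne_bot_of_le_ne_bot hH1 hHT)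
  -- the characteristic subgroup
  obtain ⟨K, hKT, hKne, hKN, hyK'⟩ : ∃ K : Subgroup G, K ≤ T ∧ K ≠ ⊥ ∧
      Subgroup.normalizer (T : Set G) ≤ Subgroup.normalizer (K : Set G) ∧
      y ∈ Subgroup.normalizer (K : Set G) := by
    have hinj : Set.InjOn ι ((TW : Subgroup W) : Set W) := hι.injOn
    have hTWmap : (TW : Subgroup W).map ι = T := hcomapT
    rcases hyK with hyK | hyK
    · refine ⟨omegaZ p T, (omegaZ_le T).trans inf_le_left, ?_, fun g hg => ?_, ?_⟩
      · haveI := hT1
        haveI : Nontrivial (Subgroup.center T) := hTp.center_nontrivial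
        have hd : p ∣ Nat.card (Subgroup.center T) := by
          obtain ⟨k, hk⟩ := IsPGroup.iff_card.1 (hTp.to_subgroup (Subgroup.center T))
          have : k ≠ 0 := by
            rintro rfl
            exact (Finite.one_lt_card (α := Subgroup.center T)).ne' (by simpa using hk)
          exact hk ▸ dvd_pow_self p this
        obtain ⟨z, hz⟩ := exists_prime_orderOf_dvd_card' p hd
        intro hbot
        have hzo : orderOf ((z : T) : G) = p := by rw [Subgroup.orderOf_coe, Subgroup.orderOf_coe, hz]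
        have hmem : ((z : T) : G) ∈ omegaZ p T := Subgroup.subset_closure
          ⟨⟨(z : T).2, Subgroup.mem_centralizer_iff.2 fun t ht =>
            congrArg Subtype.val (Subgroup.mem_center_iff.1 z.2 ⟨t, ht⟩)⟩,
            hzo ▸ pow_orderOf_eq_one _⟩
        rw [hbot, Subgroup.mem_bot] at hmem
        rw [hmem, orderOf_one] at hzo
        exact hp.out.one_lt.ne hzo
      · refine mem_normalizer_of_cj_le (le_of_eq ?_)
        rw [omegaZ_cj, cj_eq_self hg]
      · rw [← hTWmap, ← omegaZ_map ι _ hinj]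
        exact Subgroup.le_normalizer_map ι ⟨y₀, hyK, rfl⟩
    · refine ⟨jElem p T, jElem_le T, ?_, normalizer_le_jElem T, ?_⟩
      · rw [jElem_eq]
        intro hbot
        rw [thompsonSubgroupOf, Subgroup.map_eq_bot_iff_of_injective _ T.subtype_injective] at hbot
        obtain ⟨k, hk⟩ := IsPGroup.iff_card.1 hTp
        have : k ≠ 0 := by
          rintro rfl
          exact (Finite.one_lt_card (α := T)).ne' (by simpa using hk)
        exact thompsonSubgroup_ne_bot (hk ▸ dvd_pow_self p this) hbot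
      · rw [← hTWmap, ← jElem_map_injOn ι _ hinj]
        exact Subgroup.le_normalizer_map ι ⟨y₀, hyK, rfl⟩
  have hTS : T ≠ (S : Subgroup G) := fun h =>
    hne ⟨H, hHS, (le_of_eq h.symm).trans inf_le_right, hHM⟩
  set T' := (S : Subgroup G) ⊓ Subgroup.normalizer (T : Set G) with hT'
  have hTT' : T < T' := by
    refine lt_of_le_of_ne (le_inf inf_le_left Subgroup.le_normalizer) fun h => hTS ?_
    haveI := S.isPGroup'.isNilpotent
    have hnc : NormalizerCondition (S : Subgroup G) := Group.normalizerCondition_of_isNilpotent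
    have h1 : T.subgroupOf (S : Subgroup G) = ⊤ := by
      by_contra htop
      refine (hnc _ (lt_top_iff_ne_top.2 htop)).not_ge fun s hs => Subgroup.mem_subgroupOf.2 ?_
      rw [h]
      refine ⟨s.2, Subgroup.mem_normalizer_iff.2 fun t => ?_⟩
      constructor
      · intro ht
        exact ((Subgroup.mem_normalizer_iff.1 hs ⟨t, (inf_le_left : T ≤ _) ht⟩).1 ht)
      · intro ht
        have htS : t ∈ (S : Subgroup G) := by
          have := mul_mem (mul_mem (inv_mem s.2) ((inf_le_left : T ≤ _) ht)) s.2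
          rwa [show (s : G)⁻¹ * (s * t * (s : G)⁻¹) * s = t by group] at this
        exact ((Subgroup.mem_normalizer_iff.1 hs ⟨t, htS⟩).2 ht)
    exact le_antisymm inf_le_left (Subgroup.subgroupOf_eq_top.1 h1)
  have hlt : Nat.card T < Nat.card T' := lt_of_not_ge fun h =>
    hTT'.ne (Subgroup.eq_of_le_of_card_ge hTT'.le h)
  set Y := Subgroup.normalizer (K : Set G) with hY
  have hT'Y : T' ≤ Y := inf_le_right.trans hKN
  have hHY : H ≤ Y := hHT.trans (Subgroup.le_normalizer.trans hKN)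
  by_cases hYtop : Y = ⊤
  swap
  · -- induction in the normaliser
    have hlt' : Nat.card Y < n := hn ▸ lt_of_le_of_ne (Nat.le_of_dvd Nat.card_pos Y.card_subgroup_dvd_card)
      fun h => hYtop (Subgroup.eq_top_of_card_eq _ h)
    have hMY : Moves q (H.subgroupOf Y) := by
      refine ⟨⟨y, hyK'⟩, ?_, ⟨i, by rw [Subgroup.orderOf_mk, hyq]⟩, fun hc => hyc ?_⟩
      · refine Subgroup.mem_normalizer_iff.2 fun h => ?_
        exact Subgroup.mem_normalizer_iff.1 hyN (h : G)
      · refine Subgroup.mem_centralizer_iff.2 fun h hh => ?_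
        exact congrArg Subtype.val (Subgroup.mem_centralizer_iff.1 hc ⟨h, hHY hh⟩ hh)
    have hT'p : IsPGroup p T' := S.isPGroup'.to_le inf_le_left
    obtain ⟨SY, hSY⟩ := (hT'p.of_equiv (Subgroup.subgroupOfEquivOfLe hT'Y).symm).exists_le_sylow
    obtain ⟨K', hK'S, hK'N, hK'M⟩ := ih _ hlt' rfl (hsol.of_injective Y.subtype Y.subtype_injective)
      _ (hHp.comap_of_injective Y.subtype Y.subtype_injective) hMY SY
    have h1 := (hcomp (K'.map Y.subtype) ((SY : Subgroup Y).map Y.subtype) (SY.isPGroup'.map _)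
      (Subgroup.map_mono hK'S) ((Subgroup.map_mono hK'N).trans (Subgroup.le_normalizer_map _))
      (moves_map _ Y.subtype_injective hK'M)).1
    have h2 : Nat.card T' ≤ Nat.card ((SY : Subgroup Y).map Y.subtype) := Nat.le_of_dvd Nat.card_pos
      (Subgroup.card_dvd_of_le fun t ht => ⟨⟨t, hT'Y ht⟩, hSY ht, rfl⟩)
    omega
  -- a normal `p`-subgroup
  haveI hKn : K.Normal := Subgroup.normalizer_eq_top_iff.1 hYtop
  have hKS : K ≤ (S : Subgroup G) := hKT.trans inf_le_left
  have hKp : IsPGroup p K := S.isPGroup'.to_le hKS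
  by_cases hyKc : y ∈ Subgroup.centralizer (K : Set G)
  swap
  · exact hne ⟨K, hKS, le_top.trans_eq hYtop.symm, y, hyK', ⟨i, hyq⟩, hyKc⟩
  set π := QuotientGroup.mk' K with hπ
  have hπs : Function.Surjective π := QuotientGroup.mk'_surjective K
  have hMq : Moves q (H.map π) := by
    obtain ⟨i', -, hi'⟩ := (Nat.dvd_prime_pow hq.out).1 (hyq ▸ orderOf_map_dvd π y)
    refine ⟨π y, Subgroup.le_normalizer_map π ⟨y, hyN, rfl⟩, ⟨i', hi'⟩, fun hc => hyc ?_⟩
    refine Subgroup.mem_centralizer_iff.2 fun h hh => ?_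
    have hk : h⁻¹ * y⁻¹ * h * y ∈ K := by
      rw [← QuotientGroup.eq_one_iff]
      show π (h⁻¹ * y⁻¹ * h * y) = 1
      rw [map_mul, mul_assoc h⁻¹, map_mul, map_mul, map_inv, map_inv, mul_assoc ((π h)⁻¹), mul_assoc ((π y)⁻¹),
        Subgroup.mem_centralizer_iff.1 hc _ ⟨h, hh, rfl⟩]
      group
    set k := h⁻¹ * y⁻¹ * h * y with hkdef
    have hky : Commute k y⁻¹ :=
      (show Commute k y from Subgroup.mem_centralizer_iff.1 hyKc k hk).inv_right
    have h1 : (k * y⁻¹) ^ q ^ i = 1 := by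
      rw [hkdef, show h⁻¹ * y⁻¹ * h * y * y⁻¹ = h⁻¹ * y⁻¹ * h⁻¹⁻¹ by group, conj_pow, inv_pow, ← hyq,
        pow_orderOf_eq_one]
      group
    rw [hky.mul_pow, inv_pow, ← hyq, pow_orderOf_eq_one, inv_one, mul_one, hyq] at h1
    obtain ⟨l, hl⟩ := IsPGroup.iff_orderOf.1 hKp ⟨k, hk⟩
    rw [Subgroup.orderOf_mk] at hl
    have hk1 : k = 1 := orderOf_eq_one_iff.1 (Nat.eq_one_of_dvd_coprimes
      ((((Nat.coprime_primes hp.out hq.out).2 hpq).pow l i)) (hl.dvd) (orderOf_dvd_of_pow_eq_one h1))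
    calc h * y = y * h * (h⁻¹ * y⁻¹ * h * y) := by group
      _ = y * h := by rw [← hkdef, hk1, mul_one]
  have hlt' : Nat.card (G ⧸ K) < n := hn ▸ Solv.card_quotient_lt K hKne
  obtain ⟨Kb, hKbS, hKbN, hKbM⟩ := ih _ hlt' rfl (hsol.quotient K hKp) _ (hHp.map π) hMq
    (S.mapSurjective hπs)
  have hSS : (((S.mapSurjective hπs : Sylow p (G ⧸ K)) : Subgroup (G ⧸ K))).comap π = (S : Subgroup G) := by
    rw [Sylow.coe_mapSurjective, Subgroup.comap_map_eq_self]
    rwa [hπ, QuotientGroup.ker_mk']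
  refine hne ⟨Kb.comap π, (Subgroup.comap_mono hKbS).trans_eq hSS, ?_, moves_comap K hKbM⟩
  rw [← hSS, ← Subgroup.comap_normalizer_eq_of_surjective _ hπs]
  exact Subgroup.comap_mono hKbN

end Cfsg.Agent.Solv.AutomizerPrimes
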