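import Cfsg.Agent.Lib.Solv.AutomizerPrimes.Basic

/-!
A `p`-solvable group has, for each prime `q`, a Hall subgroup for the pair `p`, `q`.
-/

set_option autoImplicit false
set_option linter.style.haveILetI false

namespace Cfsg.Agent.Solv.AutomizerPrimes

universe u

/-- Only the primes `p` and `q` divide `n`. -/
def TwoPrimes (p q n : ℕ) : Prop := ∀ r : ℕ, r.Prime → r ∣ n → r = p ∨ r = q

theorem TwoPrimes.mul {p q m n : ℕ} (hm : TwoPrimes p q m) (hn : TwoPrimes p q n) :
    TwoPrimes p q (m * n) := fun r hr hd => (hr.dvd_mul.1 hd).elim (hm r hr) (hn r hr)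

theorem TwoPrimes.coprime {p q m n : ℕ} (hm : TwoPrimes p q m) (hp : ¬ p ∣ n) (hq : ¬ q ∣ n) :
    n.Coprime m := Nat.coprime_of_dvd fun r hr hrn hrm => by
  rcases hm r hr hrm with rfl | rfl <;> contradiction

/-- Inside an extension of a `p'`-group by a group with primes `p`, `q`. -/
theorem exists_over_pprime {L : Type u} [Group L] [Finite L] {p q : ℕ} [Fact q.Prime]
    (N : Subgroup L) [N.Normal] (hN : ¬ p ∣ Nat.card N) (hidx : TwoPrimes p q N.index) :
    ∃ W : Subgroup L, TwoPrimes p q (Nat.card W) ∧ ¬ p ∣ W.index ∧ ¬ q ∣ W.index := by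
  obtain ⟨Q⟩ : Nonempty (Sylow q N) := inferInstance
  set Q' : Subgroup L := (Q : Subgroup N).map N.subtype with hQ'
  set M := Subgroup.normalizer (Q' : Set L) with hM
  have hMN : M ⊔ N = ⊤ := Sylow.normalizer_sup_eq_top Q
  have hQM : Q' ≤ M := Subgroup.le_normalizer
  haveI : (Q'.subgroupOf M).Normal := Subgroup.normal_in_normalizer
  set π := QuotientGroup.mk' (Q'.subgroupOf M) with hπ
  have hπs : Function.Surjective π := QuotientGroup.mk'_surjective _
  set NM := N.subgroupOf M with hNM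
  have hQN : Q'.subgroupOf M ≤ NM := fun x hx =>
    Subgroup.map_subtype_le (Q : Subgroup N) (show (x : L) ∈ Q' from hx)
  haveI : NM.Normal := by rw [hNM]; infer_instance
  haveI : (NM.map π).Normal := (inferInstance : NM.Normal).map π hπs
  have hQ'N : Q'.subgroupOf N = (Q : Subgroup N) :=
    Subgroup.comap_map_eq_self_of_injective N.subtype_injective _
  have hcard : Nat.card (NM.map π) ∣ (Q : Subgroup N).index := by
    rw [← Subgroup.relIndex_ker, hπ, QuotientGroup.ker_mk', hNM, ← Subgroup.inf_subgroupOf_right N M,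
      Subgroup.relIndex_subgroupOf inf_le_right]
    have h1 : Q'.relIndex (N ⊓ M) ∣ Q'.relIndex N :=
      dvd_of_mul_right_eq _ (Subgroup.relIndex_mul_relIndex Q' (N ⊓ M) N
        (le_inf (Subgroup.map_subtype_le _) hQM) inf_le_left)
    refine h1.trans (dvd_of_eq ?_)
    rw [Subgroup.relIndex, hQ'N]
  have hidx' : (NM.map π).index = N.index := by
    rw [Subgroup.index_map_eq NM hπs (by rw [hπ, QuotientGroup.ker_mk']; exact hQN), hNM]
    show N.relIndex M = N.index
    rw [← Subgroup.relIndex_sup_right, hMN, Subgroup.relIndex_top_right]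
  have hqQ : ¬ q ∣ (Q : Subgroup N).index := Q.not_dvd_index
  have hpQ : ¬ p ∣ (Q : Subgroup N).index := fun h => hN (h.trans (Subgroup.index_dvd_card _))
  obtain ⟨U, hU⟩ := Subgroup.exists_right_complement'_of_coprime (N := NM.map π)
    ((hidx' ▸ hidx.coprime hpQ hqQ).coprime_dvd_left hcard)
  have hUc : Nat.card U = N.index := by rw [← hidx', hU.symm.index_eq_card]
  set W := (U.comap π).map M.subtype with hW
  have hQc : Nat.card (Q'.subgroupOf M) = Nat.card (Q : Subgroup N) := by
    rw [Nat.card_congr (Subgroup.subgroupOfEquivOfLe hQM).toEquiv, hQ',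
      Subgroup.card_map_of_injective N.subtype_injective]
  have hWc : Nat.card W = N.index * Nat.card (Q : Subgroup N) := by
    rw [hW, Subgroup.card_map_of_injective M.subtype_injective, Solv.card_comap_mk', hUc, hQc]
  have hWi : W.index = (Q : Subgroup N).index := by
    have h1 := W.card_mul_index
    rw [hWc, ← N.index_mul_card, ← (Q : Subgroup N).card_mul_index, mul_assoc] at h1
    exact Nat.eq_of_mul_eq_mul_left Nat.card_pos
      (Nat.eq_of_mul_eq_mul_left (Nat.pos_of_ne_zero Subgroup.index_ne_zero_of_finite) h1)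
  refine ⟨W, hWc ▸ hidx.mul ?_, hWi ▸ hpQ, hWi ▸ hqQ⟩
  intro r hr hd
  obtain ⟨k, hk⟩ := IsPGroup.iff_card.1 Q.isPGroup'
  rw [hk] at hd
  exact Or.inr ((Nat.prime_dvd_prime_iff_eq hr Fact.out).1 (hr.dvd_of_dvd_pow hd))

/-- The Hall subgroup for two primes. -/
theorem exists_twoPrimeHall : ∀ (n : ℕ) {G : Type u} [Group G] [Finite G], Nat.card G = n →
    ∀ {p q : ℕ}, p.Prime → q.Prime → Cfsg.IsPSolvable p G →
      ∃ W : Subgroup G, TwoPrimes p q (Nat.card W) ∧ ¬ p ∣ W.index ∧ ¬ q ∣ W.index := by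
  intro n
  induction n using Nat.strong_induction_on with
  | _ n ih =>
  intro G _ _ hn p q hp hq hG
  haveI := Fact.mk hp
  haveI := Fact.mk hq
  rcases subsingleton_or_nontrivial G with hs | hnt
  · refine ⟨⊤, fun r hr hd => ?_, by rw [Subgroup.index_top]; exact hp.not_dvd_one,
      by rw [Subgroup.index_top]; exact hq.not_dvd_one⟩
    rw [Subgroup.card_top, Nat.card_unique] at hd
    exact absurd hd hr.not_dvd_one
  obtain ⟨N, hN, hNb, hNc⟩ := Solv.exists_normal_pgroup_or_coprime hG
  haveI := hN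
  set f := QuotientGroup.mk' N with hf
  have hsurj : Function.Surjective f := QuotientGroup.mk'_surjective N
  obtain ⟨Wb, hW, hWp, hWq⟩ := ih _ (hn ▸ Solv.card_quotient_lt N hNb) (G := G ⧸ N) rfl hp hq
    (Solv.isPSolvable_map hp hG f hsurj)
  set L := Wb.comap f with hL
  have hLi : L.index = Wb.index := Subgroup.index_comap_of_surjective _ hsurj
  have hNL : N ≤ L := fun x hx => by
    show f x ∈ Wb
    rw [hf, QuotientGroup.mk'_apply, (QuotientGroup.eq_one_iff x).2 hx]; exact one_mem _
  have hLc : Nat.card L = Nat.card Wb * Nat.card N := Solv.card_comap_mk' N Wb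
  rcases hNc with hNp | hNco
  · obtain ⟨k, hk⟩ := IsPGroup.iff_card.1 hNp
    refine ⟨L, hLc ▸ hW.mul fun r hr hd => ?_, hLi ▸ hWp, hLi ▸ hWq⟩
    rw [hk] at hd
    exact Or.inl ((Nat.prime_dvd_prime_iff_eq hr hp).1 (hr.dvd_of_dvd_pow hd))
  · have hidx : (N.subgroupOf L).index = Nat.card Wb := by
      have h2 := (N.subgroupOf L).card_mul_index
      rw [Solv.card_subgroupOf hNL, hLc] at h2
      exact Nat.eq_of_mul_eq_mul_left Nat.card_pos (by rw [h2, mul_comm])
    obtain ⟨W, hW1, hW2, hW3⟩ := exists_over_pprime (p := p) (q := q) (N.subgroupOf L)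
      (by rw [Solv.card_subgroupOf hNL]; exact hp.coprime_iff_not_dvd.1 hNco.symm) (hidx ▸ hW)
    have hidx2 : (W.map L.subtype).index = W.index * Wb.index := by
      rw [← hLi, ← Subgroup.relIndex_mul_index (Subgroup.map_subtype_le W), Subgroup.relIndex,
        Subgroup.subgroupOf, Subgroup.comap_map_eq_self_of_injective L.subtype_injective]
    refine ⟨W.map L.subtype, by rwa [Subgroup.card_map_of_injective L.subtype_injective], ?_, ?_⟩
    · rw [hidx2]; exact hp.prime.not_dvd_mul hW2 hWp
    · rw [hidx2]; exact hq.prime.not_dvd_mul hW3 hWq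

end Cfsg.Agent.Solv.AutomizerPrimes
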